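import Groth.Agent.GrpQLib.FpqcFamily
import Groth.Agent.DescLib.IndQAEff
import Groth.Prelude.Def_DescFam

/-!
# Descent of immersions given by predicates on points
-/

set_option backward.isDefEq.respectTransparency false
set_option backward.isDefEq.respectTransparency.types false

universe u

open CategoryTheory CategoryTheory.Limits AlgebraicGeometry Opposite MorphismProperty Desc

namespace Groth.Agent.GrpQLib

/-- Morphisms into a scheme glue along fpqc families, as soon as they are compatible. -/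
theorem glue_fpqc {ι : Type u} {X Y : Scheme.{u}} {U : ι → Scheme.{u}} (u : ∀ i, U i ⟶ X)
    (hu : Presieve.ofArrows U u ∈ Scheme.fpqcPrecoverage X) (g : ∀ i, U i ⟶ Y)
    (hg : ∀ i j Z (a : Z ⟶ U i) (b : Z ⟶ U j), a ≫ u i = b ≫ u j → a ≫ g i = b ≫ g j) :
    ∃! G : X ⟶ Y, ∀ i, u i ≫ G = g i := by
  have hs : Presieve.IsSheafFor (yoneda.obj Y) (Presieve.ofArrows U u) :=
    (Presieve.isSheafFor_iff_generate _).2
      ((GrothendieckTopology.Subcanonical.isSheaf_of_isRepresentable (J := Scheme.fpqcTopology) (yoneda.obj Y)) _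
        (Precoverage.generate_mem_toGrothendieck hu))
  exact (Presieve.isSheafFor_arrows_iff _ _).1 hs g hg

/-- A predicate on morphisms into `X` which is stable under restriction, local for the pullbacks of a covering
family, and represented by immersions with a property `P` on the members, is represented by one with `P`. -/
theorem exists_rep_descent (P : MorphismProperty Scheme.{u}) [P.IsStableUnderBaseChange] [IsZariskiLocalAtTarget P]
    [DescendsAlong P (@Surjective ⊓ @Flat ⊓ @QuasiCompact)]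
    (hP : ∀ {A B : Scheme.{u}} (f : A ⟶ B), P f → IsImmersion f) {ι : Type u} {X : Scheme.{u}}
    {U : ι → Scheme.{u}} (u : ∀ i, U i ⟶ X) (hu : Presieve.ofArrows U u ∈ Scheme.fpqcPrecoverage X)
    (G : ∀ ⦃W : Scheme.{u}⦄, (W ⟶ X) → Prop)
    (hres : ∀ ⦃W W' : Scheme.{u}⦄ (c : W' ⟶ W) (v : W ⟶ X), G v → G (c ≫ v))
    (hloc : ∀ ⦃W : Scheme.{u}⦄ (v : W ⟶ X), (∀ i, G (pullback.snd (u i) v ≫ v)) → G v)
    (hrep : ∀ i, ∃ (Z : Scheme.{u}) (k : Z ⟶ U i), P k ∧
      ∀ ⦃W : Scheme.{u}⦄ (w : W ⟶ U i), G (w ≫ u i) ↔ ∃ z, z ≫ k = w) :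
    ∃ (Z : Scheme.{u}) (i : Z ⟶ X), P i ∧ ∀ ⦃W : Scheme.{u}⦄ (v : W ⟶ X), G v ↔ ∃ z, z ≫ i = v := by
  choose Z k hk hkG using hrep
  haveI : ∀ i, IsImmersion (k i) := fun i => hP _ (hk i)
  have sub : ∀ (i : ι) {T : Scheme.{u}} (x : T ⟶ U i), Subsingleton (Lifts (Over.mk (k i)) x) :=
    fun i T x => ⟨fun a b => Subtype.ext ((cancel_mono (k i)).1 (a.2.trans b.2.symm))⟩
  have move : ∀ {T : Scheme.{u}} {i j : ι} (x₀ : T ⟶ U i) (x₁ : T ⟶ U j), x₀ ≫ u i = x₁ ≫ u j →
      Lifts (Over.mk (k i)) x₀ → Nonempty (Lifts (Over.mk (k j)) x₁) := fun x₀ x₁ h v => by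
    obtain ⟨z, hz⟩ := (hkG _ x₁).1 (h ▸ (hkG _ x₀).2 ⟨v.1, v.2⟩)
    exact ⟨⟨z, hz⟩⟩
  let D : SchDDFam u :=
    { obj := fun i => Over.mk (k i)
      φ := fun T i j x₀ x₁ h =>
        { toFun := fun v => (move x₀ x₁ h v).some
          invFun := fun v => (move x₁ x₀ h.symm v).some
          left_inv := fun v => (sub i x₀).elim _ _
          right_inv := fun v => (sub j x₁).elim _ _ }
      φ_natural := fun T T' g i j x₀ x₁ h y₀ y₁ _ hy₁ h' v v' _ => by
        refine (cancel_mono (k j)).1 ?_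
        have e' : ∀ {T : Scheme.{u}} {x : T ⟶ U j} (w : Lifts (Over.mk (k j)) x), w.1 ≫ k j = x := fun w => w.2
        exact (e' _).trans (hy₁.symm.trans ((congrArg (g ≫ ·) (e' _)).symm.trans (Category.assoc _ _ _).symm))
      φ_self := fun T i x v => (sub i x).elim _ _
      φ_comp := fun T i j l x₀ x₁ x₂ h₀ h₁ v => (sub l x₂).elim _ _ }
  obtain ⟨U₀, ⟨e⟩⟩ := Groth.Agent.DescLib.IndQA.isEffective_of_indQA u hu D fun i =>
    Groth.Agent.MorLib.IQA.indQA_of_isImmersion (k i)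
  let a : ∀ i, pullback (u i) U₀.hom ⟶ Z i := fun i => (e.hom.hom i).left
  let b : ∀ i, Z i ⟶ pullback (u i) U₀.hom := fun i => (e.inv.hom i).left
  have ha : ∀ i, a i ≫ k i = pullback.fst (u i) U₀.hom := fun i => Over.w (e.hom.hom i)
  have hb : ∀ i, b i ≫ pullback.fst (u i) U₀.hom = k i := fun i => Over.w (e.inv.hom i)
  have hab : ∀ i, a i ≫ b i = 𝟙 _ := fun i => congrArg (fun f => (f.hom i).left) e.hom_inv_id
  have hba : ∀ i, b i ≫ a i = 𝟙 _ := fun i => congrArg (fun f => (f.hom i).left) e.inv_hom_id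
  have hPi : P U₀.hom := of_fpqc_family P u hu _ fun i => by
    haveI : IsIso (a i) := ⟨b i, hab i, hba i⟩
    rw [← ha i]
    exact (P.cancel_left_of_respectsIso _ _).2 (hk i)
  haveI := hP _ hPi
  refine ⟨U₀.left, U₀.hom, hPi, fun W v => ⟨fun hv => ?_, ?_⟩⟩
  · have hcov : Presieve.ofArrows (fun i => pullback (u i) v) (fun i => pullback.snd (u i) v) ∈
        Scheme.fpqcPrecoverage W :=
      Precoverage.mem_coverings_of_isPullback u hu v _ (fun i => pullback.fst (u i) v)
        fun i => (IsPullback.of_hasPullback (u i) v).flip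
    have hy : ∀ i, ∃ y : pullback (u i) v ⟶ U₀.left, y ≫ U₀.hom = pullback.snd (u i) v ≫ v := fun i => by
      obtain ⟨z, hz⟩ := (hkG i (pullback.fst (u i) v)).1 (by
        rw [pullback.condition]
        exact hres _ _ hv)
      refine ⟨z ≫ b i ≫ pullback.snd (u i) U₀.hom, ?_⟩
      rw [Category.assoc, Category.assoc, ← pullback.condition, ← pullback.condition, reassoc_of% (hb i),
        reassoc_of% hz]
    choose y hy using hy
    obtain ⟨G₀, hG₀, -⟩ := glue_fpqc _ hcov y fun i j T g₁ g₂ hg => (cancel_mono U₀.hom).1 (by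
      rw [Category.assoc, Category.assoc, hy, hy, reassoc_of% hg])
    refine ⟨G₀, ?_⟩
    obtain ⟨E, -, huniq⟩ := glue_fpqc _ hcov (fun i => pullback.snd (u i) v ≫ v) fun i j T g₁ g₂ hg => by
      rw [reassoc_of% hg]
    exact (huniq _ fun i => by rw [← Category.assoc, hG₀, hy]).trans (huniq _ fun i => rfl).symm
  · rintro ⟨z, rfl⟩
    refine hres _ _ (hloc _ fun i => ?_)
    rw [← pullback.condition, ← ha i]
    exact (hkG i _).2 ⟨a i, rfl⟩

end Groth.Agent.GrpQLib
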