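import Groth.Agent.GrpQLib.QuotSection
import Groth.Agent.S6041

/-!
# The fppf quotient by an equivalence relation with closed graph is an fpqc sheaf
-/

set_option backward.isDefEq.respectTransparency false
set_option backward.isDefEq.respectTransparency.types false

universe u

open CategoryTheory CategoryTheory.Limits AlgebraicGeometry Opposite QuotSh MonoidalCategory MorphismProperty

namespace Groth.Agent.GrpQLib

open CartesianMonoidalCategory

variable {S : Scheme.{u}} {R U T : Over S}

local notation "K₀" => Scheme.fppfPrecoverage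

instance : Precoverage.Small.{u} (Scheme.fppfPrecoverage.{u}) :=
  inferInstanceAs (Precoverage.Small.{u} (Scheme.precoverage (@Flat ⊓ @LocallyOfFinitePresentation)))

instance : Precoverage.HasIsos (Scheme.fppfPrecoverage.{u}) := by
  have : (@Flat ⊓ @LocallyOfFinitePresentation : MorphismProperty Scheme.{u}).ContainsIdentities :=
    ⟨fun X => ⟨inferInstanceAs (Flat (𝟙 X)), inferInstanceAs (LocallyOfFinitePresentation (𝟙 X))⟩⟩
  exact inferInstanceAs (Scheme.precoverage (@Flat ⊓ @LocallyOfFinitePresentation)).HasIsos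

/-- A point factors through a monomorphism as soon as it does on an fpqc covering. -/
theorem exists_factor_of_fpqc {X Z V : Over S} (i : Z ⟶ X) [Mono i.left] (v : V ⟶ X) {ι : Type u} {W : ι → Over S}
    (c : ∀ j, W j ⟶ V)
    (hc : Presieve.ofArrows (fun j => (W j).left) (fun j => (c j).left) ∈ Scheme.fpqcPrecoverage V.left)
    (h : ∀ j, ∃ z, z ≫ i = c j ≫ v) : ∃ z, z ≫ i = v := by
  choose z hz using h
  have hz' : ∀ j, (z j).left ≫ i.left = (c j).left ≫ v.left := fun j => by
    rw [← Over.comp_left, hz, Over.comp_left]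
  obtain ⟨g, hg, -⟩ := glue_fpqc _ hc (fun j => (z j).left) fun j k T a b hab => (cancel_mono i.left).1 (by
    rw [Category.assoc, Category.assoc, hz', hz', reassoc_of% hab])
  obtain ⟨E, -, huniq⟩ := glue_fpqc _ hc (fun j => (c j).left ≫ v.left) fun j k T a b hab => by
    rw [reassoc_of% hab]
  have hgi : g ≫ i.left = v.left :=
    (huniq _ fun j => by rw [← Category.assoc, hg, hz']).trans (huniq _ fun j => rfl).symm
  exact ⟨Over.homMk g (by rw [← CategoryTheory.Over.w i, reassoc_of% hgi, CategoryTheory.Over.w]),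
    (Over.forget S).map_injective hgi⟩

/-- The pullback of a family. -/
theorem mem_pullback {K : Precoverage Scheme.{u}} [K.IsStableUnderBaseChange] {V X : Over S} {ι : Type u}
    {W : ι → Over S} (f : ∀ j, W j ⟶ X) (hf : Presieve.ofArrows (fun j => (W j).left) (fun j => (f j).left) ∈ K X.left)
    (g : V ⟶ X) : Presieve.ofArrows (fun j => (pullback g (f j)).left) (fun j => (pullback.fst g (f j)).left) ∈
      K V.left :=
  Precoverage.mem_coverings_of_isPullback _ hf g.left _ (fun j => (pullback.snd g (f j)).left)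
    fun j => (IsPullback.of_hasPullback g (f j)).map (Over.forget S)

section

variable {s t : R ⟶ U} [IsEquivalenceRelation s t] [Flat s.left] [Surjective s.left]
  [LocallyOfFinitePresentation s.left]

omit [Flat s.left] [Surjective s.left] [LocallyOfFinitePresentation s.left] in
theorem closed_isImmersion {A B : Scheme.{u}} (f : A ⟶ B) (hf : IsClosedImmersion f) : IsImmersion f :=
  have := hf; inferInstance

variable (hc : IsClosedImmersion (lift t s).left)

include hc in
/-- The fppf quotient is separated for fpqc coverings. -/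
theorem fppfQuot_separated {T : Over S} {ι : Type u} {W : ι → Over S} (f : ∀ j, W j ⟶ T)
    (hf : Presieve.ofArrows (fun j => (W j).left) (fun j => (f j).left) ∈ Scheme.fpqcPrecoverage T.left)
    {σ σ' : rep K₀ T ⟶ quot K₀ s t} (h : ∀ j, repMap K₀ (f j) ≫ σ = repMap K₀ (f j) ≫ σ') : σ = σ' := by
  obtain ⟨Z, i, hi, hσ⟩ := exists_rep (K := K₀) @IsClosedImmersion (fun f => closed_isImmersion f)
    Scheme.fppfPrecoverage_le_fpqcPrecoverage hc σ
  obtain ⟨Z', i', hi', hσ'⟩ := exists_rep (K := K₀) @IsClosedImmersion (fun f => closed_isImmersion f)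
    Scheme.fppfPrecoverage_le_fpqcPrecoverage hc σ'
  haveI := hi
  haveI := hi'
  haveI : Mono i := mono_of_mono_left i
  have hmem := mem_pullback f hf (i ≫ snd U T)
  have key : ∃ z, z ≫ i' = i := exists_factor_of_fpqc i' i _ hmem fun j => (hσ' _).1 (by
    rw [Category.assoc, Category.assoc, repMap_comp, Category.assoc, hσ.eq, ← Category.assoc,
      ← repMap_comp, pullback.condition, repMap_comp, Category.assoc, Category.assoc, h j])
  have e := ((hσ' i).2 key)
  rw [hσ.eq] at e
  haveI : Flat (i ≫ snd U T).left :=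
    hσ.prop Scheme.fppfPrecoverage_le_fpqcPrecoverage @Flat ‹Flat s.left›
  haveI : Surjective (i ≫ snd U T).left :=
    hσ.prop Scheme.fppfPrecoverage_le_fpqcPrecoverage @Surjective ‹Surjective s.left›
  haveI : LocallyOfFinitePresentation (i ≫ snd U T).left :=
    hσ.prop Scheme.fppfPrecoverage_le_fpqcPrecoverage @LocallyOfFinitePresentation ‹_›
  refine rep_hom_ext (K := K₀) (fun _ : PUnit.{u + 1} => i ≫ snd U T) ?_ fun _ => e
  rw [Presieve.ofArrows_pUnit]
  exact Scheme.Hom.singleton_mem_fppfPrecoverage _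

include hc in
/-- Compatible sections of the fppf quotient glue along fpqc coverings. -/
theorem fppfQuot_glue {T : Over S} {ι : Type u} {W : ι → Over S} (f : ∀ j, W j ⟶ T)
    (hf : Presieve.ofArrows (fun j => (W j).left) (fun j => (f j).left) ∈ Scheme.fpqcPrecoverage T.left)
    (σ : ∀ j, rep K₀ (W j) ⟶ quot K₀ s t)
    (hσ : ∀ j k (V : Over S) (a : V ⟶ W j) (b : V ⟶ W k), a ≫ f j = b ≫ f k →
      repMap K₀ a ≫ σ j = repMap K₀ b ≫ σ k) :
    ∃ τ : rep K₀ T ⟶ quot K₀ s t, ∀ j, repMap K₀ (f j) ≫ τ = σ j := by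
  have hle := Scheme.fppfPrecoverage_le_fpqcPrecoverage.{u}
  let G : ∀ ⦃V : Over S⦄, (V ⟶ U ⊗ T) → Prop := fun V v => ∀ (j : ι) (V' : Over S) (c : V' ⟶ V) (d : V' ⟶ W j),
    d ≫ f j = c ≫ v ≫ snd U T → repMap K₀ (c ≫ v ≫ fst U T) ≫ quotπ K₀ s t = repMap K₀ d ≫ σ j
  have hrepj : ∀ j, ∃ (Z : Over S) (i : Z ⟶ U ⊗ W j), IsClosedImmersion i.left ∧ Rep (σ j) i := fun j =>
    exists_rep (K := K₀) @IsClosedImmersion (fun f => closed_isImmersion f) hle hc (σ j)
  choose Zj ij hij hZj using hrepj
  -- a point of `U ⊗ W j` satisfies `G` iff it is on the graph of `σ j`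
  have hGj : ∀ j {V : Over S} (a : V ⟶ U) (b : V ⟶ W j),
      G (lift a (b ≫ f j)) ↔ repMap K₀ a ≫ quotπ K₀ s t = repMap K₀ b ≫ σ j := fun j V a b => by
    refine ⟨fun hG => ?_, fun e k V' c d hd => ?_⟩
    · have := hG j V (𝟙 _) b (by simp)
      simpa using this
    · rw [lift_snd, ← Category.assoc] at hd
      rw [lift_fst, repMap_comp, Category.assoc, e, ← Category.assoc, ← repMap_comp,
        hσ k j V' d (c ≫ b) hd]
  obtain ⟨Z, i, hi, hG⟩ := exists_rep_over (K := Scheme.fpqcPrecoverage) @IsClosedImmersion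
    (fun f => closed_isImmersion f) le_rfl (fun j => pullback.fst (snd U T) (f j)) (mem_pullback f hf _) G
    (fun V V' c v h j V'' c' d hd => by
      have := h j V'' (c' ≫ c) d (by simpa using hd)
      simpa using this)
    (fun V v W' c' hc' h j V' c d hd => by
      refine fppfQuot_separated hc _ (mem_pullback c' hc' c) fun k => ?_
      have e := h k j _ (pullback.snd c (c' k)) (pullback.fst c (c' k) ≫ d) (by
        rw [Category.assoc, hd, Category.assoc, ← reassoc_of% (pullback.condition (f := c) (g := c' k))])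
      rw [← Category.assoc (repMap K₀ (pullback.fst c (c' k))), ← repMap_comp,
        ← Category.assoc (repMap K₀ (pullback.fst c (c' k))), ← repMap_comp, ← e]
      simp only [Category.assoc]
      rw [← reassoc_of% (pullback.condition (f := c) (g := c' k))])
    (fun j => by
      let m : pullback (snd U T) (f j) ⟶ U ⊗ W j :=
        lift (pullback.fst (snd U T) (f j) ≫ fst U T) (pullback.snd (snd U T) (f j))
      refine ⟨pullback (ij j) m, pullback.snd _ _,
        MorphismProperty.of_isPullback (P := @IsClosedImmersion)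
          ((IsPullback.of_hasPullback (ij j) m).map (Over.forget S)) (hij j), fun V w => ?_⟩
      have hw : w ≫ pullback.fst (snd U T) (f j) =
          lift (w ≫ pullback.fst (snd U T) (f j) ≫ fst U T) ((w ≫ pullback.snd (snd U T) (f j)) ≫ f j) := by
        apply CartesianMonoidalCategory.hom_ext
        · simp
        · simp [pullback.condition]
      rw [hw, hGj, ← show (w ≫ m) ≫ fst U (W j) = w ≫ pullback.fst (snd U T) (f j) ≫ fst U T by simp [m],
        ← show (w ≫ m) ≫ snd U (W j) = w ≫ pullback.snd (snd U T) (f j) by simp [m], hZj j (w ≫ m)]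
      refine ⟨fun ⟨z, hz⟩ => ⟨pullback.lift z w hz, pullback.lift_snd _ _ _⟩, fun ⟨z, hz⟩ => ?_⟩
      exact ⟨z ≫ pullback.fst _ _, by rw [Category.assoc, pullback.condition, reassoc_of% hz]⟩)
  haveI := hi
  haveI : Mono i := mono_of_mono_left i
  haveI := hij
  haveI : ∀ j, Mono (ij j) := fun j => mono_of_mono_left (ij j)
  have hGi : G i := (hG i).2 ⟨𝟙 _, Category.id_comp _⟩
  -- the base changes of `Z ⟶ T` are the graphs
  have hbc : ∀ (Q : MorphismProperty Scheme.{u}) [Q.IsStableUnderBaseChange] [IsZariskiLocalAtTarget Q]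
      [DescendsAlong Q (@Surjective ⊓ @Flat ⊓ @QuasiCompact)], Q s.left → Q (i ≫ snd U T).left := by
    intro Q _ _ _ hs
    refine of_fpqc_family Q (fun j => (f j).left) hf _ fun j => ?_
    let d := pullback.fst (f j) (i ≫ snd U T)
    let g := pullback.snd (f j) (i ≫ snd U T)
    obtain ⟨r, hr⟩ := (hZj j (lift (g ≫ i ≫ fst U T) d)).1 (by
      rw [lift_fst, lift_snd]
      exact hGi j _ g d pullback.condition)
    obtain ⟨z', hz'⟩ := (hG (lift (ij j ≫ fst U (W j)) ((ij j ≫ snd U (W j)) ≫ f j))).1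
      ((hGj j _ _).2 (hZj j).eq)
    let w : Zj j ⟶ pullback (f j) (i ≫ snd U T) :=
      pullback.lift (ij j ≫ snd U (W j)) z' (by rw [reassoc_of% hz', lift_snd, Category.assoc])
    have hwr : w ≫ r = 𝟙 _ := by
      rw [← cancel_mono (ij j), Category.assoc, hr, Category.id_comp]
      apply CartesianMonoidalCategory.hom_ext
      · simp [w, d, g, reassoc_of% hz']
      · simp [w, d, g]
    have hrd : r ≫ ij j ≫ snd U (W j) = d := by rw [reassoc_of% hr, lift_snd]
    have hrw : r ≫ w = 𝟙 _ := by
      apply pullback.hom_ext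
      · simpa [w] using hrd
      · rw [← cancel_mono i, Category.id_comp]
        simp only [w, Category.assoc, pullback.lift_snd_assoc, hz']
        apply CartesianMonoidalCategory.hom_ext
        · simp [reassoc_of% hr, g]
        · simp [reassoc_of% hr, d, g, pullback.condition]
    haveI : IsIso r := ⟨w, hrw, hwr⟩
    haveI : IsIso r.left := inferInstanceAs (IsIso ((Over.forget S).map r))
    have h₁ : Q d.left := by
      rw [← hrd, Over.comp_left]
      exact (Q.cancel_left_of_respectsIso _ _).2 ((hZj j).prop hle Q hs)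
    have e := (IsPullback.of_hasPullback (f j) (i ≫ snd U T)).map (Over.forget S)
    have e' : e.isoPullback.hom ≫ pullback.fst (f j).left (i ≫ snd U T).left = d.left := e.isoPullback_hom_fst
    rw [← e'] at h₁
    exact (Q.cancel_left_of_respectsIso _ _).1 h₁
  haveI := hbc @Flat ‹_›
  haveI := hbc @Surjective ‹_›
  haveI := hbc @LocallyOfFinitePresentation ‹_›
  have hrel : ∀ (V : Over S) (z₁ z₂ : V ⟶ Z), z₁ ≫ i ≫ snd U T = z₂ ≫ i ≫ snd U T →
      ∃ r : V ⟶ R, r ≫ s = z₁ ≫ i ≫ fst U T ∧ r ≫ t = z₂ ≫ i ≫ fst U T := fun V z₁ z₂ e => by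
    obtain ⟨r, h₁, h₂⟩ := (quotπ_eq_iff (K := K₀) (s := s) (t := t) (z₂ ≫ i ≫ fst U T) (z₁ ≫ i ≫ fst U T)).1 (by
      refine fppfQuot_separated hc _ (mem_pullback f hf (z₁ ≫ i ≫ snd U T)) fun j => ?_
      let c := pullback.fst (z₁ ≫ i ≫ snd U T) (f j)
      let d := pullback.snd (z₁ ≫ i ≫ snd U T) (f j)
      have e₁ := hGi j _ (c ≫ z₁) d (by rw [Category.assoc]; exact pullback.condition.symm)
      have e₂ := hGi j _ (c ≫ z₂) d (by rw [Category.assoc, ← e]; exact pullback.condition.symm)
      simp only [Category.assoc] at e₁ e₂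
      simp only [c, ← Category.assoc (repMap K₀ (pullback.fst _ _)), ← repMap_comp]
      exact e₂.trans e₁.symm)
    exact ⟨r, h₂, h₁⟩
  obtain ⟨τ, hτ, -⟩ := Groth.Agent.S6041.result s t T Z i hrel
  refine ⟨τ, fun j => ?_⟩
  let d := pullback.fst (f j) (i ≫ snd U T)
  let g := pullback.snd (f j) (i ≫ snd U T)
  have sq := (IsPullback.of_hasPullback (f j) (i ≫ snd U T)).map (Over.forget S)
  haveI : Flat d.left := MorphismProperty.of_isPullback (P := @Flat) sq.flip ‹_›
  haveI : Surjective d.left := MorphismProperty.of_isPullback (P := @Surjective) sq.flip ‹_›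
  haveI : LocallyOfFinitePresentation d.left :=
    MorphismProperty.of_isPullback (P := @LocallyOfFinitePresentation) sq.flip ‹_›
  refine rep_hom_ext (K := K₀) (fun _ : PUnit.{u + 1} => d) ?_ fun _ => ?_
  · rw [Presieve.ofArrows_pUnit]
    exact Scheme.Hom.singleton_mem_fppfPrecoverage _
  · rw [← hGi j _ g d pullback.condition, repMap_comp g, Category.assoc, hτ, ← Category.assoc, ← Category.assoc,
      ← repMap_comp, ← repMap_comp, pullback.condition]

include hc in
/-- The fppf quotient satisfies the sheaf condition for the fpqc topology. -/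
theorem fppfQuot_isSheaf_fpqc :
    Presheaf.IsSheaf (J Scheme.fpqcPrecoverage S) (quot K₀ s t).obj := by
  rw [isSheaf_iff_isSheaf_of_type]
  intro T S₀ hS₀ x hx
  haveI : Precoverage.Small.{u} (Scheme.fpqcPrecoverage.{u}) :=
    inferInstanceAs (Precoverage.Small.{u} (Scheme.propQCPrecoverage @Flat))
  haveI : (Scheme.fpqcPrecoverage.{u}).HasPullbacks := ⟨fun {X} R f hR => inferInstance⟩
  rw [GrothendieckTopology.mem_over_iff] at hS₀
  obtain ⟨P, hP, hle⟩ := Precoverage.mem_toGrothendieck_iff_of_isStableUnderComposition.1 hS₀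
  obtain ⟨𝒰, rfl⟩ := Precoverage.mem_iff_exists_zeroHypercover.1 hP
  let 𝒱 := Precoverage.ZeroHypercover.restrictIndexOfSmall.{u} 𝒰
  have hmem : ∀ j, S₀ (overHom T (𝒱.f j)) := fun j => (Sieve.overEquiv_iff _ _).1 (hle _ _ ⟨_⟩)
  let f : ∀ j, overObj T (𝒱.f j) ⟶ T := fun j => overHom T (𝒱.f j)
  let σ : ∀ j, rep K₀ (overObj T (𝒱.f j)) ⟶ quot K₀ s t := fun j => (evEquiv _ _).symm (x _ (hmem j))
  obtain ⟨τ, hτ⟩ := fppfQuot_glue hc f 𝒱.mem₀ σ fun j k V a b e => (evEquiv _ _).injective (by
    rw [evEquiv_repMap, evEquiv_repMap, Equiv.apply_symm_apply, Equiv.apply_symm_apply]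
    exact hx a b (hmem j) (hmem k) e)
  have sep : ∀ {Y : Over S} (g : Y ⟶ T) (a b : (quot K₀ s t).obj.obj (op Y)),
      (∀ j, (quot K₀ s t).obj.map (pullback.fst g (f j)).op a = (quot K₀ s t).obj.map (pullback.fst g (f j)).op b) →
        a = b := fun {Y} g a b e => by
    refine (evEquiv Y _).symm.injective (fppfQuot_separated hc _ (mem_pullback f 𝒱.mem₀ g) fun j =>
      (evEquiv _ _).injective ?_)
    rw [evEquiv_repMap, evEquiv_repMap, Equiv.apply_symm_apply, Equiv.apply_symm_apply]
    exact e j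
  have hτ' : ∀ j, (quot K₀ s t).obj.map (f j).op (evEquiv T _ τ) = x _ (hmem j) := fun j => by
    rw [← evEquiv_repMap, hτ, Equiv.apply_symm_apply]
  refine ⟨evEquiv T _ τ, fun Y g hg => sep g _ _ fun j => ?_, fun y hy => sep (𝟙 T) _ _ fun j => ?_⟩
  · rw [← hx (pullback.snd g (f j)) (pullback.fst g (f j)) (hmem j) hg pullback.condition.symm, ← hτ',
      ← Functor.map_comp_apply, ← op_comp, ← Functor.map_comp_apply, ← op_comp, pullback.condition]
  · have hj : pullback.fst (𝟙 T) (f j) = pullback.snd (𝟙 T) (f j) ≫ f j := by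
      simpa using pullback.condition (f := 𝟙 T) (g := f j)
    rw [hj, op_comp, Functor.map_comp_apply, Functor.map_comp_apply, hy _ (hmem j), hτ']

end

end Groth.Agent.GrpQLib
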