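import Groth.Agent.AlgSpLib.Descends
import Groth.Agent.AlgSpLib.Descends2
import Mathlib.AlgebraicGeometry.Sites.Fpqc
import Mathlib.AlgebraicGeometry.Morphisms.FlatMono

/-!
# Properties local at the target for fpqc families
-/

set_option backward.isDefEq.respectTransparency false
set_option backward.isDefEq.respectTransparency.types false

universe u

open CategoryTheory CategoryTheory.Limits AlgebraicGeometry MorphismProperty TopologicalSpace

namespace Groth.Agent.GrpQLib

instance : DescendsAlong (@IsOpenImmersion : MorphismProperty Scheme.{u})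
    (@Surjective ⊓ @Flat ⊓ @QuasiCompact) where
  of_isPullback {A X Y Z fst snd f g} h hf hfst := by
    have : IsOpenImmersion fst := hfst
    have : Mono g := AlgSpLib.mono_of_descends h hf
    have : Flat g := MorphismProperty.of_isPullback_of_descendsAlong
      (P := @Flat) (Q := @Surjective ⊓ @Flat ⊓ @QuasiCompact) h hf inferInstance
    have : LocallyOfFinitePresentation g := MorphismProperty.of_isPullback_of_descendsAlong
      (P := @LocallyOfFinitePresentation) (Q := @Surjective ⊓ @Flat ⊓ @QuasiCompact) h hf inferInstance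
    exact IsOpenImmersion.of_flat_of_mono g

/-- A property local at the target and descending along fpqc morphisms is tested on fpqc families. -/
theorem of_fpqc_family (P : MorphismProperty Scheme.{u}) [P.IsStableUnderBaseChange] [IsZariskiLocalAtTarget P]
    [DescendsAlong P (@Surjective ⊓ @Flat ⊓ @QuasiCompact)] {ι : Type u} {X Y : Scheme.{u}} {U : ι → Scheme.{u}}
    (u : ∀ i, U i ⟶ X) (hu : Presieve.ofArrows U u ∈ Scheme.fpqcPrecoverage X) (g : Y ⟶ X)
    (h : ∀ i, P (pullback.fst (u i) g)) : P g := by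
  haveI hqc : QuasiCompactCover (⟨ι, U, u⟩ : PreZeroHypercover.{u} X) :=
    (Scheme.presieve₀_mem_qcPrecoverage_iff (E := ⟨ι, U, u⟩)).1 hu.1
  have hflat : ∀ i, Flat (u i) := ((Scheme.ofArrows_mem_precoverage_iff _).1 hu.2).2
  refine IsZariskiLocalAtTarget.of_forall_exists_morphismRestrict fun x => ?_
  obtain ⟨W, hW, hx, -⟩ :=
    Opens.isBasis_iff_nbhd.1 X.isBasis_affineOpens (show x ∈ (⊤ : X.Opens) from trivial)
  refine ⟨W, hx, ?_⟩
  obtain ⟨m, a, V, hVa, hVeq⟩ :=
    QuasiCompactCover.exists_isAffineOpen_of_isCompact (⟨ι, U, u⟩ : PreZeroHypercover.{u} X) hW.isCompact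
  change Fin m → ι at a
  let c : ∀ k : Fin m, Scheme.Opens.toScheme (V k) ⟶ U (a k) := fun k => Scheme.Opens.ι (V k)
  have hsub : ∀ k, Set.range (c k ≫ u (a k)) ⊆ Set.range (Scheme.Opens.ι W) := fun k => by
    rintro _ ⟨y, rfl⟩
    rw [Scheme.Opens.range_ι W, ← hVeq]
    exact Set.mem_iUnion.2 ⟨k, (c k) y, y.2, rfl⟩
  let v : ∀ k, Scheme.Opens.toScheme (V k) ⟶ Scheme.Opens.toScheme W := fun k => IsOpenImmersion.lift (Scheme.Opens.ι W) (c k ≫ u (a k)) (hsub k)
  have hv : ∀ k, v k ≫ (Scheme.Opens.ι W) = c k ≫ u (a k) := fun k => IsOpenImmersion.lift_fac _ _ _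
  haveI : IsAffine (Scheme.Opens.toScheme W) := hW
  haveI : ∀ k, IsAffine (Scheme.Opens.toScheme (V k)) := fun k => hVa k
  let p := Sigma.desc v
  haveI : Flat p := IsZariskiLocalAtSource.sigmaDesc fun k => by
    haveI := hflat (a k)
    refine MorphismProperty.of_postcomp (W' := @IsOpenImmersion) @Flat (v k) (Scheme.Opens.ι W) inferInstance ?_
    rw [hv k]; infer_instance
  haveI : Surjective p := ⟨fun x => by
    obtain ⟨k, y, hy, e⟩ : ∃ k, ∃ y ∈ (V k : Set (U (a k))), u (a k) y = (Scheme.Opens.ι W) x := by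
      have := x.2
      rw [← SetLike.mem_coe, ← hVeq, Set.mem_iUnion] at this
      obtain ⟨k, y, hy, e⟩ := this
      exact ⟨k, y, hy, e⟩
    refine ⟨Sigma.ι (fun k => Scheme.Opens.toScheme (V k)) k ⟨y, hy⟩, (Scheme.Opens.ι W).isOpenEmbedding.injective ?_⟩
    rw [← e, ← Scheme.Hom.comp_apply, ← Scheme.Hom.comp_apply,
      show Sigma.ι _ _ ≫ p ≫ (Scheme.Opens.ι W) = c k ≫ u (a k) from (Sigma.ι_desc_assoc v _ (Scheme.Opens.ι W)).trans (hv k)]
    rfl⟩
  refine MorphismProperty.of_isPullback_of_descendsAlong (Q := @Surjective ⊓ @Flat ⊓ @QuasiCompact)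
    (IsPullback.of_hasPullback p (g ∣_ W)) ⟨⟨inferInstance, inferInstance⟩, inferInstance⟩ ?_
  refine IsZariskiLocalAtTarget.of_openCover (sigmaOpenCover fun k => Scheme.Opens.toScheme (V k)) fun k => ?_
  have e₁ := ((IsPullback.of_hasPullback (pullback.fst p (g ∣_ W))
      ((sigmaOpenCover fun k => Scheme.Opens.toScheme (V k)).f k)).paste_horiz
    (IsPullback.of_hasPullback p (g ∣_ W)).flip).paste_horiz (isPullback_morphismRestrict g W).flip
  have e₂ := ((IsPullback.of_hasPullback (c k) (pullback.fst (u (a k)) g)).flip.paste_horiz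
    (IsPullback.of_hasPullback (u (a k)) g).flip)
  rw [sigmaOpenCover_f, Sigma.ι_desc, hv k] at e₁
  have := P.pullback_fst (c k) (pullback.fst (u (a k)) g) (h (a k))
  change P (pullback.snd _ _)
  erw [← e₁.isoIsPullback_hom_snd _ _ e₂]
  exact (P.cancel_left_of_respectsIso _ _).2 this

end Groth.Agent.GrpQLib
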