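import Mathlib.CategoryTheory.EffectiveEpi.Basic
import Mathlib.CategoryTheory.Limits.Shapes.Equalizers
import Mathlib.CategoryTheory.MorphismProperty.Limits

/-!
# Coequalizers of inverse images of reflexive pairs
-/

set_option backward.isDefEq.respectTransparency false
set_option backward.isDefEq.respectTransparency.types false

universe v₁ u₁

open CategoryTheory CategoryTheory.Limits

namespace Groth.Agent.GrpQLib

variable {C : Type u₁} [Category.{v₁} C] [HasPullbacks C] {X₁ X₀ Y₀ : C} (d₀ d₁ : X₁ ⟶ X₀) (s : X₀ ⟶ X₁)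
  (hs₀ : s ≫ d₀ = 𝟙 X₀) (hs₁ : s ≫ d₁ = 𝟙 X₀) (f₀ : Y₀ ⟶ X₀)

/-- First projection of the inverse image pair. -/
noncomputable abbrev invFst : pullback (pullback.snd f₀ d₁ ≫ d₀) f₀ ⟶ Y₀ :=
  pullback.fst (pullback.snd f₀ d₁ ≫ d₀) f₀ ≫ pullback.fst f₀ d₁

/-- Second projection of the inverse image pair. -/
noncomputable abbrev invSnd : pullback (pullback.snd f₀ d₁ ≫ d₀) f₀ ⟶ Y₀ := pullback.snd (pullback.snd f₀ d₁ ≫ d₀) f₀

theorem comm {T : C} (h : X₀ ⟶ T) (he : d₁ ≫ h = d₀ ≫ h) : invFst d₀ d₁ f₀ ≫ f₀ ≫ h = invSnd d₀ d₁ f₀ ≫ f₀ ≫ h := by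
  simp only [invFst, invSnd, Category.assoc]
  rw [pullback.condition_assoc (f := f₀) (g := d₁), he,
    ← pullback.condition_assoc (f := pullback.snd f₀ d₁ ≫ d₀) (g := f₀), Category.assoc]

variable [EffectiveEpi f₀] (hf : MorphismProperty.universally (MorphismProperty.epimorphisms C) f₀)

include hs₀ hs₁ hf in
theorem existsUnique_desc {T : C} (g : Y₀ ⟶ T) (hg : invFst d₀ d₁ f₀ ≫ g = invSnd d₀ d₁ f₀ ≫ g) :
    ∃! h : X₀ ⟶ T, d₁ ≫ h = d₀ ≫ h ∧ f₀ ≫ h = g := by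
  have hdesc : ∀ {Z : C} (a b : Z ⟶ Y₀), a ≫ f₀ = b ≫ f₀ → a ≫ g = b ≫ g := by
    intro Z a b hab
    let z := pullback.lift (f := f₀) (g := d₁) a (a ≫ f₀ ≫ s) (by simp [hs₁])
    let w := pullback.lift (f := pullback.snd f₀ d₁ ≫ d₀) (g := f₀) z b (by simp [z, hs₀, hab])
    simpa [invFst, invSnd, z, w] using w ≫= hg
  let h := EffectiveEpi.desc f₀ g hdesc
  have hh : f₀ ≫ h = g := EffectiveEpi.fac _ _ _
  refine ⟨h, ⟨?_, hh⟩, fun h' ⟨_, e⟩ => (cancel_epi f₀).1 (e.trans hh.symm)⟩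
  have e₁ : Epi (pullback.snd f₀ d₁) := hf _ _ _ (IsPullback.of_hasPullback f₀ d₁).flip
  have e₂ : Epi (pullback.fst (pullback.snd f₀ d₁ ≫ d₀) f₀) :=
    hf _ _ _ (IsPullback.of_hasPullback (pullback.snd f₀ d₁ ≫ d₀) f₀)
  rw [← cancel_epi (pullback.fst (pullback.snd f₀ d₁ ≫ d₀) f₀ ≫ pullback.snd f₀ d₁), Category.assoc, Category.assoc,
    ← pullback.condition_assoc (f := f₀) (g := d₁), hh, ← Category.assoc (pullback.snd f₀ d₁) d₀,
    pullback.condition_assoc (f := pullback.snd f₀ d₁ ≫ d₀) (g := f₀), hh]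
  simpa [invFst, invSnd] using hg

include hs₀ hs₁ hf in
theorem hasCoequalizer_iff : HasCoequalizer d₁ d₀ ↔ HasCoequalizer (invFst d₀ d₁ f₀) (invSnd d₀ d₁ f₀) := by
  constructor
  · intro _
    refine ⟨⟨⟨Cofork.ofπ (f₀ ≫ coequalizer.π d₁ d₀) (comm d₀ d₁ f₀ _ (coequalizer.condition _ _)), ?_⟩⟩⟩
    choose h hh hu using fun c : Cofork (invFst d₀ d₁ f₀) (invSnd d₀ d₁ f₀) =>
      existsUnique_desc d₀ d₁ s hs₀ hs₁ f₀ hf c.π c.condition
    refine Cofork.IsColimit.mk _ (fun c => coequalizer.desc (h c) (hh c).1) (fun c => ?_) fun c m hm => ?_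
    · rw [Cofork.π_ofπ, Category.assoc, coequalizer.π_desc, (hh c).2]
    · let m' : coequalizer d₁ d₀ ⟶ c.pt := m
      show m' = _
      apply coequalizer.hom_ext
      rw [coequalizer.π_desc]
      refine hu c _ ⟨by rw [coequalizer.condition_assoc], ?_⟩
      rw [← Category.assoc]
      exact hm
  · intro _
    obtain ⟨q, ⟨hq₁, hq₂⟩, -⟩ := existsUnique_desc d₀ d₁ s hs₀ hs₁ f₀ hf
      (coequalizer.π (invFst d₀ d₁ f₀) (invSnd d₀ d₁ f₀)) (coequalizer.condition _ _)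
    refine ⟨⟨⟨Cofork.ofπ q hq₁, Cofork.IsColimit.mk _
      (fun c => coequalizer.desc (f₀ ≫ c.π) (comm d₀ d₁ f₀ c.π c.condition)) (fun c => ?_) fun c m hm => ?_⟩⟩⟩
    · rw [Cofork.π_ofπ, ← cancel_epi f₀, reassoc_of% hq₂, coequalizer.π_desc]
    · let m' : X₀ ⟶ coequalizer (invFst d₀ d₁ f₀) (invSnd d₀ d₁ f₀) := q
      let d : coequalizer (invFst d₀ d₁ f₀) (invSnd d₀ d₁ f₀) ⟶ c.pt := m
      show d = _
      apply coequalizer.hom_ext
      rw [coequalizer.π_desc, ← hq₂, Category.assoc]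
      exact congrArg (f₀ ≫ ·) hm

end Groth.Agent.GrpQLib
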