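import Groth.Agent.AlgStLib.QuotShEff
import Groth.Agent.GrpQLib.FpqcFamily

/-!
# Elements of quotient sheaves and coverings of schemes over a base
-/

set_option backward.isDefEq.respectTransparency false
set_option backward.isDefEq.respectTransparency.types false

universe u

open CategoryTheory CategoryTheory.Limits AlgebraicGeometry Opposite QuotSh

namespace Groth.Agent.GrpQLib

open Groth.Agent.AlgStLib.QuotShEff Groth.Agent.AlgSpPts

variable {K : Precoverage Scheme.{u}} {S : Scheme.{u}}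

/-- Maps out of a representable sheaf are elements. -/
noncomputable def evEquiv (V : Over S) (F : Sh K S) : (rep K V ⟶ F) ≃ F.obj.obj (op V) :=
  ((sheafificationAdjunction (J K S) (Type (u + 1))).homEquiv _ F).trans
    (uliftYonedaEquiv.{u + 1} (X := V) (F := F.obj))

theorem evEquiv_repMap {V W : Over S} (g : W ⟶ V) {F : Sh K S} (φ : rep K V ⟶ F) :
    evEquiv W F (repMap K g ≫ φ) = F.obj.map g.op (evEquiv V F φ) := by
  let adj := sheafificationAdjunction (J K S) (Type (u + 1))
  have h := adj.homEquiv_naturality_left (Functor.whiskerRight (yoneda.map g) uliftFunctor.{u + 1, u}) φ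
  exact (congrArg (fun x => uliftYonedaEquiv.{u + 1} (X := W) (F := F.obj) x) h).trans
    (uliftYonedaEquiv_naturality (X := op V) (Y := op W) _ g.op).symm

theorem repMap_comp {V W X : Over S} (g : V ⟶ W) (g' : W ⟶ X) :
    repMap K (g ≫ g') = repMap K g ≫ repMap K g' := by
  show (presheafToSheaf _ _).map _ = _
  rw [← Functor.map_comp, ← Functor.whiskerRight_comp, ← yoneda.map_comp]

theorem repMap_id (V : Over S) : repMap K (𝟙 V) = 𝟙 _ := by
  show (presheafToSheaf _ _).map _ = _
  rw [yoneda.map_id, Functor.whiskerRight_id', CategoryTheory.Functor.map_id]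

/-- A family of schemes over `X.left` is a family over `X`. -/
abbrev overObj (V : Over S) {Y : Scheme.{u}} (p : Y ⟶ V.left) : Over S := Over.mk (p ≫ V.hom)

/-- The structure map of a member of a family. -/
abbrev overHom (V : Over S) {Y : Scheme.{u}} (p : Y ⟶ V.left) : overObj V p ⟶ V := Over.homMk p

theorem generate_mem_J {V : Over S} {ι : Type*} {W : ι → Over S} (f : ∀ i, W i ⟶ V)
    (hf : Presieve.ofArrows (fun i => (W i).left) (fun i => (f i).left) ∈ K V.left) :
    Sieve.generate (Presieve.ofArrows W f) ∈ J K S V := by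
  rw [GrothendieckTopology.mem_over_iff]
  refine K.toGrothendieck.superset_covering ?_ (Precoverage.generate_mem_toGrothendieck hf)
  rw [Sieve.generate_le_iff]
  rintro Y _ ⟨i⟩
  exact (Sieve.overEquiv_iff _ _).2 ⟨W i, Over.homMk (𝟙 _) (by simp), f i, ⟨i⟩, by ext; simp⟩

/-- Two maps out of a representable sheaf agree if they do on a covering family. -/
theorem rep_hom_ext {V : Over S} {ι : Type*} {W : ι → Over S} (f : ∀ i, W i ⟶ V)
    (hf : Presieve.ofArrows (fun i => (W i).left) (fun i => (f i).left) ∈ K V.left)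
    {F : Sh K S} {φ ψ : rep K V ⟶ F} (h : ∀ i, repMap K (f i) ≫ φ = repMap K (f i) ≫ ψ) : φ = ψ := by
  refine (evEquiv V F).injective ?_
  refine ((((isSheaf_iff_isSheaf_of_type _ _).1 F.property _ (generate_mem_J f hf))).isSeparatedFor).ext ?_
  rintro Y _ ⟨Z, a, _, ⟨i⟩, rfl⟩
  rw [← evEquiv_repMap, ← evEquiv_repMap, repMap_comp, Category.assoc, Category.assoc, h i]

variable {R U : Over S} {s t : R ⟶ U}

theorem quotπ_eq_iff [(J K S).Subcanonical] [IsEquivalenceRelation s t] {V : Over S} (a b : V ⟶ U) :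
    repMap K a ≫ quotπ K s t = repMap K b ≫ quotπ K s t ↔ ∃ r : V ⟶ R, r ≫ t = a ∧ r ≫ s = b := by
  refine ⟨fun h => ?_, ?_⟩
  · obtain ⟨l, hl₁, hl₂⟩ := PullbackCone.IsLimit.lift' (Groth.Agent.AlgSpPts.isPullback_quotπ K
      (isEqvRel_of_isEquivalenceRelation (s := s) (t := t))).isLimit _ _ h
    let e : ∀ X : Over S, rep K X ≅ (J K S).uliftYoneda.{u + 1}.obj X := repIsoUliftYoneda K
    obtain ⟨r, hr⟩ := (J K S).uliftYoneda.{u + 1}.map_surjective ((e V).inv ≫ l ≫ (e R).hom)
    have hr' : l = repMap K r := by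
      rw [← cancel_mono (e R).hom, ← repMap_iso K r]
      show _ = (e V).hom ≫ _
      rw [hr, Iso.hom_inv_id_assoc]
    have key : ∀ {x y : V ⟶ U}, repMap K x = repMap K y → x = y := fun {x y} hxy =>
      (J K S).uliftYoneda.{u + 1}.map_injective (by
        rw [← cancel_epi (e V).hom, repMap_iso K x, repMap_iso K y, hxy])
    exact ⟨r, key (by rw [repMap_comp, ← hr']; exact hl₁), key (by rw [repMap_comp, ← hr']; exact hl₂)⟩
  · rintro ⟨r, rfl, rfl⟩
    rw [repMap_comp, repMap_comp, Category.assoc, Category.assoc, quot_condition]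

/-- Sections of the quotient lift locally. -/
theorem exists_lift [K.IsStableUnderComposition] [K.IsStableUnderBaseChange] [K.HasIsos]
    [Precoverage.Small.{u} K] (T : Over S) (σ : rep K T ⟶ quot K s t) :
    ∃ (ι : Type u) (X : ι → Scheme.{u}) (p : ∀ i, X i ⟶ T.left), Presieve.ofArrows X p ∈ K T.left ∧
      ∀ i, ∃ a : overObj T (p i) ⟶ U, repMap K a ≫ quotπ K s t = repMap K (overHom T (p i)) ≫ σ := by
  haveI : Epi (quotπ K s t) := by unfold quotπ; infer_instance
  haveI := (Sheaf.isLocallySurjective_iff_epi (quotπ K s t)).2 inferInstance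
  have hmem := Presheaf.imageSieve_mem (J K S) (quotπ K s t).hom (evEquiv T _ σ)
  haveI hsurj : Presheaf.IsLocallySurjective (J K S)
      (toSheafify (J K S) (yoneda.obj U ⋙ uliftFunctor.{u + 1, u})) := inferInstance
  have hmem' : Presheaf.imageSieve
      (toSheafify (J K S) (yoneda.obj U ⋙ uliftFunctor.{u + 1, u}) ≫ (quotπ K s t).hom) (evEquiv T _ σ) ∈
        J K S T := Presheaf.imageSieve_mem _ _ _
  rw [GrothendieckTopology.mem_over_iff] at hmem'
  haveI : K.HasPullbacks := ⟨fun {X} R f hR => inferInstance⟩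
  obtain ⟨P, hP, hle⟩ := Precoverage.mem_toGrothendieck_iff_of_isStableUnderComposition.1 hmem'
  obtain ⟨𝒰, rfl⟩ := Precoverage.mem_iff_exists_zeroHypercover.1 hP
  let 𝒱 := Precoverage.ZeroHypercover.restrictIndexOfSmall.{u} 𝒰
  refine ⟨𝒱.I₀, 𝒱.X, 𝒱.f, 𝒱.mem₀, fun i => ?_⟩
  obtain ⟨y, hy⟩ := (Sieve.overEquiv_iff _ _).1 (hle _ _ ⟨_⟩ : Sieve.overEquiv T _ (𝒱.f i))
  refine ⟨y.down, (evEquiv _ _).injective ?_⟩
  rw [evEquiv_repMap, evEquiv_repMap]
  refine (((toSheafify (J K S) (yoneda.obj U ⋙ uliftFunctor.{u + 1, u}) ≫ (quotπ K s t).hom).naturality_apply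
    y.down.op (el (T := op U) (𝟙 U))).symm.trans ?_).trans hy
  show (toSheafify (J K S) (yoneda.obj U ⋙ uliftFunctor.{u + 1, u}) ≫ (quotπ K s t).hom).app _
    (el (T := op _) (y.down ≫ 𝟙 U)) = _
  rw [Category.comp_id]
  rfl

end Groth.Agent.GrpQLib
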