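import Groth.Agent.GrpQLib.QuotEl
import Groth.Agent.GrpQLib.DescentPred

/-!
# Sections of a quotient sheaf as stable subschemes
-/

set_option backward.isDefEq.respectTransparency false
set_option backward.isDefEq.respectTransparency.types false

universe u

open CategoryTheory CategoryTheory.Limits AlgebraicGeometry Opposite QuotSh MonoidalCategory MorphismProperty

namespace Groth.Agent.GrpQLib

open CartesianMonoidalCategory

variable {K : Precoverage Scheme.{u}} {S : Scheme.{u}} {R U T : Over S} {s t : R ⟶ U}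

theorem mono_of_mono_left {A B : Over S} (i : A ⟶ B) [Mono i.left] : Mono i :=
  (Over.forget S).mono_of_mono_map ‹Mono i.left›

/-- A predicate over `S` stable under restriction only depends on the underlying morphism. -/
theorem res_iff {X : Over S} (G : ∀ ⦃V : Over S⦄, (V ⟶ X) → Prop)
    (hres : ∀ ⦃V V' : Over S⦄ (c : V' ⟶ V) (v : V ⟶ X), G v → G (c ≫ v)) {V : Over S} (v : V ⟶ X)
    {W : Scheme.{u}} (w : W ⟶ X.left) (e : W = V.left) (he : w = eqToHom e ≫ v.left) :
    G (overHom X w) ↔ G v := by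
  subst e
  rw [eqToHom_refl, Category.id_comp] at he
  subst he
  refine ⟨fun h => ?_, fun h => ?_⟩
  · have : v = Over.homMk (U := V) (V := overObj X v.left) (𝟙 V.left) (by simp) ≫ overHom X v.left := by
      ext; simp
    rw [this]
    exact hres _ _ h
  · have : overHom X v.left = Over.homMk (U := overObj X v.left) (V := V) (𝟙 V.left) (by simp) ≫ v := by
      ext; simp
    rw [this]
    exact hres _ _ h

/-- Descent of immersions given by predicates, over `S`. -/
theorem exists_rep_over (P : MorphismProperty Scheme.{u}) [P.IsStableUnderBaseChange] [IsZariskiLocalAtTarget P]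
    [DescendsAlong P (@Surjective ⊓ @Flat ⊓ @QuasiCompact)]
    (hP : ∀ {A B : Scheme.{u}} (f : A ⟶ B), P f → IsImmersion f) [K.IsStableUnderBaseChange]
    (hK : K ≤ Scheme.fpqcPrecoverage) {ι : Type u} {X : Over S} {W : ι → Over S} (f : ∀ i, W i ⟶ X)
    (hf : Presieve.ofArrows (fun i => (W i).left) (fun i => (f i).left) ∈ K X.left)
    (G : ∀ ⦃V : Over S⦄, (V ⟶ X) → Prop)
    (hres : ∀ ⦃V V' : Over S⦄ (c : V' ⟶ V) (v : V ⟶ X), G v → G (c ≫ v))
    (hloc : ∀ ⦃V : Over S⦄ (v : V ⟶ X) (W' : ι → Over S) (c : ∀ i, W' i ⟶ V),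
      Presieve.ofArrows (fun i => (W' i).left) (fun i => (c i).left) ∈ K V.left → (∀ i, G (c i ≫ v)) → G v)
    (hrep : ∀ i, ∃ (Z : Over S) (k : Z ⟶ W i), P k.left ∧
      ∀ ⦃V : Over S⦄ (w : V ⟶ W i), G (w ≫ f i) ↔ ∃ z, z ≫ k = w) :
    ∃ (Z : Over S) (i : Z ⟶ X), P i.left ∧ ∀ ⦃V : Over S⦄ (v : V ⟶ X), G v ↔ ∃ z, z ≫ i = v := by
  obtain ⟨Z₀, i₀, hi, hG⟩ := exists_rep_descent P hP (fun i => (f i).left) (hK _ hf)
    (fun W v => G (overHom X v))
    (fun W W' c v h => by
      have := hres (Over.homMk c : overObj (overObj X v) c ⟶ overObj X v) _ h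
      exact (res_iff G hres _ (c ≫ v) rfl (by simp)).2 this)
    (fun W v h => by
      refine hloc (overHom X v) (fun i => overObj (overObj X v) (pullback.snd (f i).left v))
        (fun i => overHom (overObj X v) (pullback.snd (f i).left v)) ?_ fun i => ?_
      · exact Precoverage.mem_coverings_of_isPullback _ hf v _ (fun i => pullback.fst (f i).left v)
          fun i => (IsPullback.of_hasPullback (f i).left v).flip
      · exact (res_iff G hres _ (pullback.snd (f i).left v ≫ v) rfl (by simp)).1 (h i))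
    (fun i => by
      obtain ⟨Z, k, hk, hkG⟩ := hrep i
      refine ⟨Z.left, k.left, hk, fun V w => ?_⟩
      rw [res_iff G hres (overHom (W i) w ≫ f i) (w ≫ (f i).left) rfl (by simp), hkG]
      refine ⟨fun ⟨z, hz⟩ => ⟨z.left, by rw [← Over.comp_left, hz]; rfl⟩, fun ⟨z, hz⟩ => ⟨Over.homMk z ?_, ?_⟩⟩
      · rw [← Over.w k, ← hz]; simp
      · ext; simpa using hz)
  refine ⟨overObj X i₀, overHom X i₀, hi, fun V v => ?_⟩
  rw [← res_iff G hres v v.left rfl (by simp), hG]
  refine ⟨fun ⟨z, hz⟩ => ⟨Over.homMk z (by simp [reassoc_of% hz]), by ext; simpa using hz⟩,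
    fun ⟨z, hz⟩ => ⟨z.left, by rw [← hz]; simp⟩⟩

/-- The subscheme `i` of `U ⊗ T` represents the graph of the section `σ`. -/
def Rep (σ : rep K T ⟶ quot K s t) {Z : Over S} (i : Z ⟶ U ⊗ T) : Prop :=
  ∀ ⦃V : Over S⦄ (v : V ⟶ U ⊗ T),
    repMap K (v ≫ fst U T) ≫ quotπ K s t = repMap K (v ≫ snd U T) ≫ σ ↔ ∃ z, z ≫ i = v

/-- The graph of a section is represented. -/
theorem exists_rep (P : MorphismProperty Scheme.{u}) [P.IsStableUnderBaseChange] [IsZariskiLocalAtTarget P]
    [DescendsAlong P (@Surjective ⊓ @Flat ⊓ @QuasiCompact)]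
    (hP : ∀ {A B : Scheme.{u}} (f : A ⟶ B), P f → IsImmersion f)
    [K.IsStableUnderComposition] [K.IsStableUnderBaseChange] [K.HasIsos]
    [Precoverage.Small.{u} K] [(J K S).Subcanonical] (hK : K ≤ Scheme.fpqcPrecoverage)
    [IsEquivalenceRelation s t] (hc : P (lift t s).left) (σ : rep K T ⟶ quot K s t) :
    ∃ (Z : Over S) (i : Z ⟶ U ⊗ T), P i.left ∧ Rep σ i := by
  obtain ⟨ι, X, p, hp, ha⟩ := exists_lift T σ
  choose a ha using ha
  let W : ι → Over S := fun j => pullback (snd U T) (overHom T (p j))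
  have hW : Presieve.ofArrows (fun j => (W j).left) (fun j => (pullback.fst (snd U T) (overHom T (p j))).left) ∈
      K (U ⊗ T).left :=
    Precoverage.mem_coverings_of_isPullback p hp (snd U T).left _
      (fun j => (pullback.snd (snd U T) (overHom T (p j))).left)
      fun j => (IsPullback.of_hasPullback (snd U T) (overHom T (p j))).map (Over.forget S)
  refine exists_rep_over P hP hK _ hW
    (fun V v => repMap K (v ≫ fst U T) ≫ quotπ K s t = repMap K (v ≫ snd U T) ≫ σ)
    (fun V V' c v h => ?_) (fun V v W' c hc' h => rep_hom_ext c hc' fun i => ?_) (fun j => ?_)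
  · simp only [Category.assoc, repMap_comp] at h ⊢
    rw [h]
  · simpa only [Category.assoc, repMap_comp] using h i
  · let u := pullback.fst (snd U T) (overHom T (p j))
    let v := pullback.snd (snd U T) (overHom T (p j))
    let m : W j ⟶ U ⊗ U := lift (u ≫ fst U T) (v ≫ a j)
    refine ⟨pullback (lift t s) m, pullback.snd _ _,
      P.of_isPullback ((IsPullback.of_hasPullback (lift t s) m).map (Over.forget S)) hc,
      fun V w => ?_⟩
    have hw : repMap K ((w ≫ u) ≫ snd U T) ≫ σ = repMap K (w ≫ v ≫ a j) ≫ quotπ K s t := by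
      rw [Category.assoc, pullback.condition, repMap_comp, repMap_comp, repMap_comp, repMap_comp,
        Category.assoc, Category.assoc, Category.assoc, Category.assoc, ha j]
    rw [hw, quotπ_eq_iff]
    refine ⟨fun ⟨r, h₁, h₂⟩ => ⟨pullback.lift r w ?_, pullback.lift_snd _ _ _⟩, fun ⟨z, hz⟩ => ?_⟩
    · apply CartesianMonoidalCategory.hom_ext
      · simpa [m] using h₁
      · simpa [m] using h₂
    · refine ⟨z ≫ pullback.fst _ _, ?_, ?_⟩
      · have := congrArg (fun q => q ≫ fst U U) (congrArg (z ≫ ·) (pullback.condition (f := lift t s) (g := m)))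
        subst hz
        simpa [m] using this
      · have := congrArg (fun q => q ≫ snd U U) (congrArg (z ≫ ·) (pullback.condition (f := lift t s) (g := m)))
        subst hz
        simpa [m] using this

variable {σ : rep K T ⟶ quot K s t} {Z : Over S} {i : Z ⟶ U ⊗ T}

theorem Rep.eq (h : Rep σ i) :
    repMap K (i ≫ fst U T) ≫ quotπ K s t = repMap K (i ≫ snd U T) ≫ σ :=
  (h i).2 ⟨𝟙 _, Category.id_comp _⟩

theorem Rep.stable (h : Rep σ i) (V : Over S) (r : V ⟶ R ⊗ T) :
    (∃ z : V ⟶ Z, z ≫ i = r ≫ (s ▷ T)) ↔ (∃ z : V ⟶ Z, z ≫ i = r ≫ (t ▷ T)) := by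
  have key : repMap K ((r ≫ (s ▷ T)) ≫ fst U T) ≫ quotπ K s t =
      repMap K ((r ≫ (t ▷ T)) ≫ fst U T) ≫ quotπ K s t := by
    simp only [Category.assoc, whiskerRight_fst, repMap_comp]
    rw [quot_condition]
  rw [← h, ← h, key]
  simp only [Category.assoc, whiskerRight_snd]

theorem Rep.related [(J K S).Subcanonical] [IsEquivalenceRelation s t] (h : Rep σ i) (V : Over S)
    (z₁ z₂ : V ⟶ Z) (e : z₁ ≫ i ≫ snd U T = z₂ ≫ i ≫ snd U T) :
    ∃ r : V ⟶ R, r ≫ s = z₁ ≫ i ≫ fst U T ∧ r ≫ t = z₂ ≫ i ≫ fst U T := by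
  obtain ⟨r, h₁, h₂⟩ := (quotπ_eq_iff (K := K) (s := s) (t := t) (z₂ ≫ i ≫ fst U T) (z₁ ≫ i ≫ fst U T)).1 (by
    have e₁ := (h (z₁ ≫ i)).2 ⟨z₁, rfl⟩
    have e₂ := (h (z₂ ≫ i)).2 ⟨z₂, rfl⟩
    simp only [Category.assoc] at e₁ e₂
    rw [e₂, e₁, e])
  exact ⟨r, h₂, h₁⟩

theorem Rep.prop (h : Rep σ i) [Mono i] [K.IsStableUnderComposition] [K.IsStableUnderBaseChange] [K.HasIsos]
    [Precoverage.Small.{u} K] [(J K S).Subcanonical] [IsEquivalenceRelation s t]
    (hK : K ≤ Scheme.fpqcPrecoverage) (Q : MorphismProperty Scheme.{u}) [Q.IsStableUnderBaseChange]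
    [IsZariskiLocalAtTarget Q] [DescendsAlong Q (@Surjective ⊓ @Flat ⊓ @QuasiCompact)] (hs : Q s.left) :
    Q (i ≫ snd U T).left := by
  obtain ⟨ι, X, p, hp, ha⟩ := exists_lift T σ
  choose a ha using ha
  refine of_fpqc_family Q p (hK _ hp) _ fun j => ?_
  let f := pullback.fst (overHom T (p j)) (i ≫ snd U T)
  let g := pullback.snd (overHom T (p j)) (i ≫ snd U T)
  have hg : repMap K (g ≫ i ≫ fst U T) ≫ quotπ K s t = repMap K (f ≫ a j) ≫ quotπ K s t := by
    rw [repMap_comp g, Category.assoc, h.eq, ← Category.assoc, ← repMap_comp, ← pullback.condition,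
      repMap_comp, repMap_comp, Category.assoc, Category.assoc, ha j]
  obtain ⟨r, hr₁, hr₂⟩ := (quotπ_eq_iff _ _).1 hg
  have hex : ∀ c : PullbackCone s (a j), ∃ z, z ≫ i = lift (c.fst ≫ t) (c.snd ≫ overHom T (p j)) := fun c =>
    (h _).1 (by
      rw [lift_fst, lift_snd, repMap_comp, repMap_comp, Category.assoc, Category.assoc, ← ha j,
        ← quot_condition, ← Category.assoc, ← Category.assoc, ← repMap_comp, ← repMap_comp, c.condition])
  choose z hz using hex
  have hzT : ∀ c : PullbackCone s (a j), c.snd ≫ overHom T (p j) = z c ≫ i ≫ snd U T := fun c => by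
    rw [reassoc_of% (hz c), lift_snd]
  have sq : IsPullback r f s (a j) := by
    refine ⟨⟨hr₂⟩, ⟨PullbackCone.IsLimit.mk _ (fun c => pullback.lift c.snd (z c) (hzT c))
      (fun c => ?_) (fun c => pullback.lift_fst _ _ _) fun c m hm₁ hm₂ => ?_⟩⟩
    · refine (Groth.Agent.AlgStLib.QuotShEff.isEqvRel_of_isEquivalenceRelation (s := s) (t := t)).injective
        _ _ _ ?_ ?_
      · rw [Category.assoc, hr₁, pullback.lift_snd_assoc, reassoc_of% (hz c), lift_fst]
      · rw [Category.assoc, hr₂, pullback.lift_fst_assoc, c.condition]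
    · apply pullback.hom_ext
      · rw [pullback.lift_fst]; exact hm₂
      · rw [pullback.lift_snd, ← cancel_mono i, hz c]
        apply CartesianMonoidalCategory.hom_ext
        · rw [lift_fst, Category.assoc, Category.assoc, ← hr₁, ← Category.assoc, hm₁]
        · rw [lift_snd, Category.assoc, Category.assoc, ← pullback.condition, ← Category.assoc, hm₂]
  have e := (IsPullback.of_hasPullback (overHom T (p j)) (i ≫ snd U T)).map (Over.forget S)
  have h₁ : Q f.left := Q.of_isPullback (sq.map (Over.forget S)) hs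
  have e' : e.isoPullback.hom ≫ pullback.fst (p j) (i ≫ snd U T).left = f.left := e.isoPullback_hom_fst
  rw [← e'] at h₁
  exact (Q.cancel_left_of_respectsIso _ _).1 h₁

/-- A stable subscheme with exact quotient map which induces a section represents its graph. -/
theorem rep_of_props [IsEquivalenceRelation s t] [Mono i.left]
    {σ : rep Scheme.fpqcPrecoverage T ⟶ quot Scheme.fpqcPrecoverage s t}
    [(J Scheme.fpqcPrecoverage S).Subcanonical]
    (hst : ∀ (V : Over S) (r : V ⟶ R ⊗ T),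
      (∃ z : V ⟶ Z, z ≫ i = r ≫ (s ▷ T)) ↔ (∃ z : V ⟶ Z, z ≫ i = r ≫ (t ▷ T)))
    (hq₁ : Flat (i ≫ snd U T).left) (hq₂ : Surjective (i ≫ snd U T).left)
    (hq₃ : QuasiCompact (i ≫ snd U T).left)
    (he : repMap Scheme.fpqcPrecoverage (i ≫ fst U T) ≫ quotπ Scheme.fpqcPrecoverage s t =
      repMap Scheme.fpqcPrecoverage (i ≫ snd U T) ≫ σ) :
    Rep σ i := fun V v => by
  refine ⟨fun hv => ?_, ?_⟩
  · have sq := IsPullback.of_hasPullback (v ≫ snd U T) (i ≫ snd U T)
    let c := pullback.fst (v ≫ snd U T) (i ≫ snd U T)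
    let w := pullback.snd (v ≫ snd U T) (i ≫ snd U T)
    have e : repMap _ (c ≫ v ≫ fst U T) ≫ quotπ _ s t =
        repMap Scheme.fpqcPrecoverage (w ≫ i ≫ fst U T) ≫ quotπ _ s t := by
      rw [repMap_comp c, repMap_comp w, Category.assoc, Category.assoc, hv, he, ← Category.assoc,
        ← Category.assoc, ← repMap_comp, ← repMap_comp, pullback.condition]
    obtain ⟨r, h₁, h₂⟩ := (quotπ_eq_iff _ _).1 e
    obtain ⟨z, hz⟩ := (hst _ (lift r (c ≫ v ≫ snd U T))).1 ⟨w, by
      apply CartesianMonoidalCategory.hom_ext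
      · simpa using h₂.symm
      · simpa using pullback.condition.symm⟩
    have hz' : z ≫ i = c ≫ v := by
      rw [hz]
      apply CartesianMonoidalCategory.hom_ext
      · simpa using h₁
      · simp
    have sq' := sq.map (Over.forget S)
    haveI : Flat c.left := MorphismProperty.of_isPullback (P := @Flat) sq'.flip hq₁
    haveI : Surjective c.left := MorphismProperty.of_isPullback (P := @Surjective) sq'.flip hq₂
    haveI : QuasiCompact c.left := MorphismProperty.of_isPullback (P := @QuasiCompact) sq'.flip hq₃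
    let z' := EffectiveEpi.desc c.left z.left fun g₁ g₂ hg => (cancel_mono i.left).1 (by
      rw [Category.assoc, Category.assoc, ← Over.comp_left, hz', Over.comp_left, reassoc_of% hg])
    have hzc : c.left ≫ z' = z.left := EffectiveEpi.fac _ _ _
    have hzi : z' ≫ i.left = v.left := by
      rw [← cancel_epi c.left, reassoc_of% hzc, ← Over.comp_left, hz', Over.comp_left]
    exact ⟨Over.homMk z' (by rw [← CategoryTheory.Over.w i, reassoc_of% hzi, CategoryTheory.Over.w]), (Over.forget S).map_injective hzi⟩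
  · rintro ⟨z, rfl⟩
    rw [Category.assoc, Category.assoc, repMap_comp z, repMap_comp z, Category.assoc, Category.assoc, he]

/-- Representatives of the same graph are isomorphic. -/
theorem Rep.iso (h : Rep σ i) {Z' : Over S} {i' : Z' ⟶ U ⊗ T} (h' : Rep σ i') [Mono i] [Mono i'] :
    ∃ e : Z ≅ Z', e.hom ≫ i' = i := by
  obtain ⟨a, ha⟩ := (h' i).1 h.eq
  obtain ⟨b, hb⟩ := (h i').1 h'.eq
  exact ⟨⟨a, b, (cancel_mono i).1 (by rw [Category.assoc, hb, ha, Category.id_comp]),
    (cancel_mono i').1 (by rw [Category.assoc, ha, hb, Category.id_comp])⟩, ha⟩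

end Groth.Agent.GrpQLib

namespace Groth.Agent.GrpQLib

open CartesianMonoidalCategory

variable {S : Scheme.{u}} {R U : Over S}

/-- Sections of an fpqc quotient sheaf are the stable subschemes with exact quotient map. -/
theorem quotSection_spec (P : MorphismProperty Scheme.{u}) [P.IsStableUnderBaseChange] [IsZariskiLocalAtTarget P]
    [DescendsAlong P (@Surjective ⊓ @Flat ⊓ @QuasiCompact)]
    (hP : ∀ {A B : Scheme.{u}} (f : A ⟶ B), P f → IsImmersion f) (s t : R ⟶ U) [IsEquivalenceRelation s t]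
    [Flat s.left] [Surjective s.left] [QuasiCompact s.left] (hc : P (lift t s).left) (T : Over S)
    (σ : rep Scheme.fpqcPrecoverage T ⟶ quot Scheme.fpqcPrecoverage s t) :
    (∃ (Z : Over S) (i : Z ⟶ U ⊗ T), P i.left ∧
      (∀ (T' : Over S) (r : T' ⟶ R ⊗ T),
        (∃ z : T' ⟶ Z, z ≫ i = r ≫ (s ▷ T)) ↔ (∃ z : T' ⟶ Z, z ≫ i = r ≫ (t ▷ T))) ∧
      Flat (i ≫ snd U T).left ∧ Surjective (i ≫ snd U T).left ∧
      QuasiCompact (i ≫ snd U T).left ∧
      (∀ (T' : Over S) (z₁ z₂ : T' ⟶ Z), z₁ ≫ i ≫ snd U T = z₂ ≫ i ≫ snd U T →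
        ∃ r : T' ⟶ R, r ≫ s = z₁ ≫ i ≫ fst U T ∧ r ≫ t = z₂ ≫ i ≫ fst U T) ∧
      repMap Scheme.fpqcPrecoverage (i ≫ fst U T) ≫ quotπ Scheme.fpqcPrecoverage s t =
        repMap Scheme.fpqcPrecoverage (i ≫ snd U T) ≫ σ) ∧
    (∀ (Z Z' : Over S) (i : Z ⟶ U ⊗ T) (i' : Z' ⟶ U ⊗ T), P i.left → P i'.left →
      (∀ (T' : Over S) (r : T' ⟶ R ⊗ T),
        (∃ z : T' ⟶ Z, z ≫ i = r ≫ (s ▷ T)) ↔ (∃ z : T' ⟶ Z, z ≫ i = r ≫ (t ▷ T))) →
      (∀ (T' : Over S) (r : T' ⟶ R ⊗ T),
        (∃ z : T' ⟶ Z', z ≫ i' = r ≫ (s ▷ T)) ↔ (∃ z : T' ⟶ Z', z ≫ i' = r ≫ (t ▷ T))) →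
      Flat (i ≫ snd U T).left → Surjective (i ≫ snd U T).left →
      QuasiCompact (i ≫ snd U T).left →
      Flat (i' ≫ snd U T).left → Surjective (i' ≫ snd U T).left →
      QuasiCompact (i' ≫ snd U T).left →
      repMap Scheme.fpqcPrecoverage (i ≫ fst U T) ≫ quotπ Scheme.fpqcPrecoverage s t =
        repMap Scheme.fpqcPrecoverage (i ≫ snd U T) ≫ σ →
      repMap Scheme.fpqcPrecoverage (i' ≫ fst U T) ≫ quotπ Scheme.fpqcPrecoverage s t =
        repMap Scheme.fpqcPrecoverage (i' ≫ snd U T) ≫ σ →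
      ∃ e : Z ≅ Z', e.hom ≫ i' = i) := by
  haveI : Precoverage.Small.{u} (Scheme.fpqcPrecoverage.{u}) :=
    inferInstanceAs (Precoverage.Small.{u} (Scheme.propQCPrecoverage @Flat))
  refine ⟨?_, fun Z Z' i i' hi hi' hs₁ hs₂ a b c a' b' c' he he' => ?_⟩
  · obtain ⟨Z, i, hi, h⟩ := exists_rep P hP le_rfl hc σ
    haveI := hP _ hi
    haveI : Mono i := mono_of_mono_left i
    exact ⟨Z, i, hi, h.stable, h.prop le_rfl @Flat inferInstance, h.prop le_rfl @Surjective inferInstance,
      h.prop le_rfl @QuasiCompact inferInstance, h.related, h.eq⟩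
  · haveI := hP _ hi
    haveI := hP _ hi'
    haveI : Mono i := mono_of_mono_left i
    haveI : Mono i' := mono_of_mono_left i'
    exact (rep_of_props hs₁ a b c he).iso (rep_of_props hs₂ a' b' c' he')

end Groth.Agent.GrpQLib
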